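import Groth.Agent.BigConeLib.Basic
import Groth.Agent.GenCutLib.Num
import Groth.Agent.NakaiLib.NefBig
import Groth.Agent.NumBddLib.Proper
import Mathlib.LinearAlgebra.Matrix.ToLinearEquiv
import Mathlib.Topology.MetricSpace.HausdorffDistance
import Mathlib.Analysis.Normed.Group.Pointwise

/-!
# The pseudo-effective cone is pointed
-/

set_option autoImplicit false
set_option backward.isDefEq.respectTransparency false
set_option backward.isDefEq.respectTransparency.types false
set_option linter.style.haveILetI false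
set_option maxHeartbeats 1000000

universe u

open CategoryTheory CategoryTheory.Limits AlgebraicGeometry TopologicalSpace
open Groth.Agent.AmpleLib
open Groth.Agent.IntLib (PicRing pairing compMod dif inv')
open Groth.Agent.BigConeLib (R)

noncomputable section

namespace Groth.Agent.PsefPointLib

theorem isCompact_interval {E : Type*} [NormedAddCommGroup E] [NormedSpace ℝ E] [FiniteDimensional ℝ E]
    {C : Set E} (hC : IsClosed C) (hs : ∀ t : ℝ, 0 < t → ∀ x ∈ C, t • x ∈ C)
    (hp : ∀ x ∈ C, -x ∈ C → x = 0) (a : E) : IsCompact {y | y ∈ C ∧ a - y ∈ C} := by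
  haveI : ProperSpace E := FiniteDimensional.proper ℝ E
  refine Metric.isCompact_of_isClosed_isBounded
    (hC.inter (hC.preimage (continuous_const.sub continuous_id))) (isBounded_iff_forall_norm_le.2 ?_)
  have key : ∀ y ∈ C, a - y ∈ C → y ≠ 0 → ‖y‖⁻¹ • y ∈ Metric.sphere (0 : E) 1 ∩ C ∧
      Metric.infDist (-(‖y‖⁻¹ • y)) C ≤ ‖a‖ / ‖y‖ := fun y hy hay hy0 => by
    have hn : 0 < ‖y‖⁻¹ := inv_pos.2 (norm_pos_iff.2 hy0)
    refine ⟨⟨?_, hs _ hn y hy⟩, (Metric.infDist_le_dist_of_mem (hs _ hn _ hay)).trans ?_⟩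
    · rw [mem_sphere_zero_iff_norm, norm_smul, norm_inv, norm_norm, inv_mul_cancel₀ (norm_ne_zero_iff.2 hy0)]
    · rw [dist_eq_norm, smul_sub, show -(‖y‖⁻¹ • y) - (‖y‖⁻¹ • a - ‖y‖⁻¹ • y) = -(‖y‖⁻¹ • a) by abel,
        norm_neg, norm_smul, norm_inv, norm_norm, inv_mul_eq_div]
  rcases (Metric.sphere (0 : E) 1 ∩ C).eq_empty_or_nonempty with h | h
  · refine ⟨0, fun y hy => ?_⟩
    by_cases hy0 : y = 0
    · rw [hy0, norm_zero]
    · exact absurd (key y hy.1 hy.2 hy0).1 (h ▸ Set.notMem_empty _)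
  obtain ⟨v, hv, hmin⟩ := ((isCompact_sphere (0 : E) 1).inter_right hC).exists_isMinOn h
    ((Metric.continuous_infDist_pt C).comp continuous_neg).continuousOn
  have hm : 0 < Metric.infDist (-v) C := (hC.notMem_iff_infDist_pos (h.mono Set.inter_subset_right)).1
    fun hv' => by
      have h1 := hp v hv.2 hv'
      rw [h1] at hv
      simp at hv
  refine ⟨‖a‖ / Metric.infDist (-v) C, fun y hy => ?_⟩
  by_cases hy0 : y = 0
  · rw [hy0, norm_zero]
    exact div_nonneg (norm_nonneg a) hm.le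
  obtain ⟨h1, h2⟩ := key y hy.1 hy.2 hy0
  rw [le_div_iff₀ hm, mul_comm]
  exact (le_div_iff₀ (norm_pos_iff.2 hy0)).1 ((hmin h1).trans h2)

variable (k : Type u) [Field k] {X : Scheme.{u}} [X.Over (Spec (CommRingCat.of k))]
  [IsProper (X ↘ Spec (CommRingCat.of k))] [PicGrp.Law X]

/-- The first Chern class of an element of the Picard group. -/
def uC (c : PicLoc.PicSet X) : PicRing X := Nakai.cl (PicGrp.exists_eq_cls c).choose_spec.choose

omit [IsProper (X ↘ Spec (CommRingCat.of k))] in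
theorem uC_cls {L : X.Modules} (hL : PicF.IsInvertible L) : uC (PicGrp.cls L hL) = Nakai.cl hL := by
  obtain ⟨e⟩ := (PicGrp.cls_eq_cls_iff hL _).1 (PicGrp.exists_eq_cls (PicGrp.cls L hL)).choose_spec.choose_spec
  exact Nakai.cl_congr _ hL e.symm

omit [IsProper (X ↘ Spec (CommRingCat.of k))] in
theorem uC_mem (c : PicLoc.PicSet X) : uC c ∈ Nakai.Aug X := Nakai.cl_mem _

omit [IsProper (X ↘ Spec (CommRingCat.of k))] in
theorem uC_mul (c d : PicLoc.PicSet X) : uC (c * d) = uC c + uC d + uC c * uC d := by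
  obtain ⟨L, hL, rfl⟩ := PicGrp.exists_eq_cls c
  obtain ⟨M, hM, rfl⟩ := PicGrp.exists_eq_cls d
  rw [← BigConeLib.cls_tensor hL hM (isInvertible_tensor hL hM), uC_cls, uC_cls, uC_cls, Nakai.cl_tensor hL hM]

variable {n : ℕ} (hn : topologicalKrullDim X = ((n + 1 : ℕ) : WithBot ℕ∞))

/-- The intersection functional of an element of degree `n`. -/
def psi {z : PicRing X} (hz : z ∈ Nakai.Aug X ^ n) : Additive (PicLoc.PicSet X) →+ ℝ :=
  AddMonoidHom.mk' (fun c => (pairing k (Coh.structureModule X) (uC c.toMul * z) : ℝ)) fun c d => by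
    have h : pairing k (Coh.structureModule X) (uC (c.toMul * d.toMul) * z) =
        pairing k (Coh.structureModule X) (uC c.toMul * z + uC d.toMul * z) :=
      Nakai.pairing_congr k (n := n + 2) (by
        rw [uC_mul, show (uC c.toMul + uC d.toMul + uC c.toMul * uC d.toMul) * z -
          (uC c.toMul * z + uC d.toMul * z) = uC c.toMul * uC d.toMul * z by ring,
          show n + 2 = 1 + 1 + n by omega, pow_add _ (1 + 1), pow_add _ 1, pow_one]
        exact Ideal.mul_mem_mul (Ideal.mul_mem_mul (uC_mem _) (uC_mem _)) hz)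
        (DevLib.isCoh_structureModule X) (Nakai.dim_structureModule_lt hn)
    show (pairing k _ (uC (c + d).toMul * z) : ℝ) = _
    rw [toMul_add, h, map_add, Int.cast_add]

include hn in
theorem pairing_of_numTriv {L : X.Modules} (hL : PicF.IsInvertible L) (h : Pic13.IsNumEquivZero k X L)
    {G : X.Modules} (hG : PicF.IsInvertible G) :
    pairing k (Coh.structureModule X) (MonoidAlgebra.of ℤ _ (inv' hG) * Nakai.cl hL) = 0 := by
  haveI := EulerIneqLib.isNoetherian_proper (X := X) k
  have hc := CurveLib.isCoh_tmod (DevLib.isCoh_structureModule X) (CurveLib.isCoh_of_isInvertible hG)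
  have hd : topologicalKrullDim (CohB1.support (CohB1.tensorMod (Coh.structureModule X) G)) <
      ((n + 2 : ℕ) : WithBot ℕ∞) :=
    lt_of_le_of_lt (Topology.IsInducing.subtypeVal.topologicalKrullDim_le.trans hn.le)
      (by exact_mod_cast Nat.lt_succ_self (n + 1))
  exact (IntLib.pairing_of_mul k (Coh.structureModule X) hG (Nakai.cl hL)).trans
    (NumBdd.pairing_cl_eq_zero_of_dim k hL h (n + 2) _ hc hd)

include hn in
theorem pairing_numTriv {L : X.Modules} (hL : PicF.IsInvertible L) (h : Pic13.IsNumEquivZero k X L) :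
    ∀ z : PicRing X, pairing k (Coh.structureModule X) (z * Nakai.cl hL) = 0 := by
  intro z
  induction z using MonoidAlgebra.induction_on with
  | of g =>
    obtain ⟨g, G, hG, rfl⟩ := g
    exact pairing_of_numTriv k hn hL h hG
  | add a b ha hb => rw [add_mul, map_add, ha, hb, add_zero]
  | smul m a ha => rw [smul_mul_assoc, map_zsmul, ha, smul_zero]

/-- The functional on classes. -/
def phi {z : PicRing X} (hz : z ∈ Nakai.Aug X ^ n) : NumR.N1 k X →+ ℝ :=
  MonoidHom.toAdditiveLeft <| QuotientGroup.lift (PicGrp.subCl (Y := X) (Pic13.IsNumEquivZero k X))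
    (AddMonoidHom.toMultiplicativeRight (psi k hn hz)) (by
      refine (Subgroup.closure_le _).2 ?_
      rintro _ ⟨L, hL, hP, rfl⟩
      show (AddMonoidHom.toMultiplicativeRight (psi k hn hz)) (PicGrp.cls L hL) = 1
      show Multiplicative.ofAdd ((pairing k (Coh.structureModule X) (uC (PicGrp.cls L hL) * z) : ℝ)) = 1
      rw [uC_cls, mul_comm, pairing_numTriv k hn hL hP z, Int.cast_zero, ofAdd_zero])

/-- The functional on real classes. -/
def F {z : PicRing X} (hz : z ∈ Nakai.Aug X ^ n) : NumR.N1R k X →ₗ[ℝ] ℝ :=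
  ((phi k hn hz).toIntLinearMap.liftBaseChange ℝ : TensorProduct ℤ ℝ (NumR.N1 k X) →ₗ[ℝ] ℝ)

theorem F_R {z : PicRing X} (hz : z ∈ Nakai.Aug X ^ n) (c : PicLoc.PicSet X) :
    F k hn hz (R k c) = (pairing k (Coh.structureModule X) (uC c * z) : ℝ) := by
  refine (LinearMap.liftBaseChange_tmul ℝ (phi k hn hz).toIntLinearMap (1 : ℝ)
    (NumR.toN1 k X (Additive.ofMul c))).trans ?_
  rw [one_smul]
  rfl

omit [IsProper (X ↘ Spec (CommRingCat.of k))] in
theorem ext_R {E : Type*} [AddCommGroup E] [Module ℝ E] {f g : NumR.N1R k X →ₗ[ℝ] E}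
    (h : ∀ c : PicLoc.PicSet X, f (R k c) = g (R k c)) : f = g :=
  LinearMap.ext_on NumR.span_clR (by rintro _ ⟨L, hL, rfl⟩; exact h (PicGrp.cls L hL))

variable [IsIntegral X]

include hn in
theorem pairing_nonneg_of_sec {z : PicRing X}
    (hpos : ∀ C : X.Modules, Coh.IsCoh C → topologicalKrullDim (CohB1.support C) < ((n + 1 : ℕ) : WithBot ℕ∞) →
      0 ≤ pairing k C z)
    {M : X.Modules} (hM : PicF.IsInvertible M) {t : Coh.structureModule X ⟶ M} (ht : t ≠ 0) :
    0 ≤ pairing k (Coh.structureModule X) (Nakai.cl hM * z) := by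
  haveI := EulerIneqLib.isNoetherian_proper (X := X) k
  haveI := CurveLib.mono_of_ne_zero ParaFLib.isInvertible_structureModule hM ht
  rw [← Nakai.pairing_coker_section k hM t]
  have hC := (QCohLib.isCoh_kernel_cokernel t (DevLib.isCoh_structureModule X)
    (CurveLib.isCoh_of_isInvertible hM)).2
  exact hpos _ hC (VanGrow.dim_support_lt hn (DevLib.isClosed_support hC)
    (CurveLib.genericPoint_notMem_support ParaFLib.isInvertible_structureModule hM ht))

theorem F_psef {z : PicRing X} (hz : z ∈ Nakai.Aug X ^ n)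
    (hpos : ∀ C : X.Modules, Coh.IsCoh C → topologicalKrullDim (CohB1.support C) < ((n + 1 : ℕ) : WithBot ℕ∞) →
      0 ≤ pairing k C z) {x : NumR.N1R k X} (hx : x ∈ NumR.psefCone k X) : 0 ≤ F k hn hz x := by
  refine closure_minimal (t := {x | 0 ≤ F k hn hz x}) ?_
    (isClosed_le continuous_const (IsModuleTopology.continuous_of_linearMap (F k hn hz))) hx
  let K : ConvexCone ℝ (NumR.N1R k X) :=
    { carrier := {x | 0 ≤ F k hn hz x}
      smul_mem' := fun r hr x hx => by
        show 0 ≤ F k hn hz (r • x)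
        rw [map_smul, smul_eq_mul]; exact mul_nonneg hr.le hx
      add_mem' := fun x hx y hy => by
        show 0 ≤ F k hn hz (x + y)
        rw [map_add]; exact add_nonneg hx hy }
  refine (ConvexCone.hull_min (C := K) ?_ : NumR.effCone k X ≤ K)
  rintro _ ⟨M, hM, ⟨t, ht⟩, rfl⟩
  show 0 ≤ F k hn hz (NumR.clR k X M hM)
  rw [← BigConeLib.R_cls k hM, F_R, uC_cls]
  exact_mod_cast pairing_nonneg_of_sec k hn hpos hM ht

theorem F_eq_zero {z : PicRing X} (hz : z ∈ Nakai.Aug X ^ n)
    (hpos : ∀ C : X.Modules, Coh.IsCoh C → topologicalKrullDim (CohB1.support C) < ((n + 1 : ℕ) : WithBot ℕ∞) →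
      0 ≤ pairing k C z) {x : NumR.N1R k X} (hx : x ∈ NumR.psefCone k X) (hx' : -x ∈ NumR.psefCone k X) :
    F k hn hz x = 0 := by
  have h := F_psef k hn hz hpos hx'
  rw [map_neg] at h
  exact le_antisymm (by linarith) (F_psef k hn hz hpos hx)

theorem eq_zero_one (hn : topologicalKrullDim X = ((0 + 1 : ℕ) : WithBot ℕ∞)) {H : X.Modules} (hH : CohB1.IsAmple H)
    {x : NumR.N1R k X} (hx : x ∈ NumR.psefCone k X) (hx' : -x ∈ NumR.psefCone k X) : x = 0 := by
  haveI := EulerIneqLib.isNoetherian_proper (X := X) k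
  have hz : (1 : PicRing X) ∈ Nakai.Aug X ^ 0 := by rw [pow_zero, Ideal.one_eq_top]; trivial
  have h1 : ∀ C : X.Modules, Coh.IsCoh C → topologicalKrullDim (CohB1.support C) < ((0 + 1 : ℕ) : WithBot ℕ∞) →
      0 ≤ pairing k C (1 : PicRing X) := fun C hC hd => by
    have := (Nakai.isPos_cl_pow k hH 0 C hC hd).1
    rwa [pow_zero] at this
  let f := F k hn hz
  have key : ∀ e : PicLoc.PicSet X, f (R k e) = 0 → R k e = 0 := fun e he => by
    obtain ⟨L, hL, rfl⟩ := PicGrp.exists_eq_cls e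
    rw [F_R, uC_cls, mul_one, Int.cast_eq_zero] at he
    show NumR.toN1R k X (NumR.cl k X L hL) = 0
    rw [NumR.cl_eq_zero hL (GenCut.numTriv_of_pairing k hL (u := Nakai.cl hL)
      (by rw [sub_self]; exact Submodule.zero_mem _) fun ξ hξ => ?_), map_zero]
    have hη : topologicalKrullDim (closure {genericPoint X} : Set X) = ((1 : ℕ) : WithBot ℕ∞) := by
      rw [(genericPoint_spec X).def, (Homeomorph.Set.univ X).isHomeomorph.topologicalKrullDim_eq, hn]
    obtain rfl : ξ = genericPoint X := by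
      by_contra hne
      exact IntLib.dim_closure_succ (genericPoint_specializes ξ) (Ne.symm hne) hξ hη.le
    obtain ⟨c, hc, hdown⟩ := Nakai.exists_pairing_eq_mul k hη (DevLib.isCoh_structureModule X)
      (by rw [(genericPoint_spec X).def]; exact Set.subset_univ _) (show ¬ Subsingleton _ from
        haveI : Nontrivial ((Coh.structureModule X).presheaf.stalk (genericPoint X)) :=
          (ParaFLib.bijective_oneG (genericPoint X)).1.nontrivial
        not_subsingleton _)
    have := hdown _ (by rw [pow_one]; exact Nakai.cl_mem hL)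
    rw [he] at this
    exact (mul_eq_zero.1 this.symm).resolve_left (by exact_mod_cast hc.ne')
  let h₀ := PicGrp.cls H hH.1
  have hH0 : f (R k h₀) ≠ 0 := by
    rw [F_R, uC_cls, mul_one, Int.cast_ne_zero]
    have hch : HilbLib.HasChain 1 (CohB1.support (Coh.structureModule X)) := by
      rw [show CohB1.support (Coh.structureModule X) = Set.univ from Set.eq_univ_of_forall fun x =>
        haveI : Nontrivial ((Coh.structureModule X).presheaf.stalk x) := (ParaFLib.bijective_oneG x).1.nontrivial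
        not_subsingleton _]
      refine (HilbLib.not_dim_lt_iff isClosed_univ _).1 ?_
      rw [(Homeomorph.Set.univ X).isHomeomorph.topologicalKrullDim_eq, hn]
      exact lt_irrefl _
    have := (Nakai.isPos_cl_pow k hH 1 _ (DevLib.isCoh_structureModule X) (Nakai.dim_structureModule_lt hn)).2 hch
    rw [pow_one] at this
    exact this.ne'
  have hlin : f (R k h₀) • LinearMap.id = f.smulRight (R k h₀) := ext_R k fun c => by
    obtain ⟨a, ha⟩ : ∃ a : ℤ, f (R k h₀) = a := ⟨_, F_R k hn hz _⟩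
    obtain ⟨b, hb⟩ : ∃ b : ℤ, f (R k c) = b := ⟨_, F_R k hn hz _⟩
    have hR : R k (c ^ a * (h₀ ^ b)⁻¹) = (a : ℝ) • R k c - (b : ℝ) • R k h₀ := by
      simp only [R, ofMul_mul, ofMul_inv, ofMul_zpow, map_add, map_neg, map_zsmul, sub_eq_add_neg]
      rw [Int.cast_smul_eq_zsmul, Int.cast_smul_eq_zsmul]
    have h0 := key (c ^ a * (h₀ ^ b)⁻¹) (by
      rw [hR, map_sub, map_smul, map_smul, ha, hb, smul_eq_mul, smul_eq_mul, mul_comm, sub_self])
    rw [hR, sub_eq_zero] at h0
    show f (R k h₀) • R k c = f (R k c) • R k h₀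
    rw [ha, hb, h0]
  have h2 := LinearMap.congr_fun hlin x
  rw [LinearMap.smul_apply, LinearMap.smulRight_apply, F_eq_zero k hn hz h1 hx hx', zero_smul] at h2
  exact (smul_eq_zero.1 h2).resolve_left hH0

variable [Module.Finite ℝ (NumR.N1R k X)]

theorem eq_zero_two {s : ℕ} (hn : topologicalKrullDim X = ((s + 1 + 1 : ℕ) : WithBot ℕ∞)) {H : X.Modules}
    (hH : CohB1.IsAmple H) {x : NumR.N1R k X} (hx : x ∈ NumR.psefCone k X) (hx' : -x ∈ NumR.psefCone k X) :
    x = 0 := by
  haveI := EulerIneqLib.isNoetherian_proper (X := X) k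
  let P := pairing k (Coh.structureModule X)
  have hzc : ∀ c : PicLoc.PicSet X, uC c * Nakai.cl hH.1 ^ s ∈ Nakai.Aug X ^ (s + 1) := fun c => by
    rw [pow_succ', ]
    exact Ideal.mul_mem_mul (uC_mem c) (Ideal.pow_mem_pow (Nakai.cl_mem _) s)
  let G := fun c => F k hn (hzc c)
  have hG : ∀ c d, G c (R k d) = (P (uC d * (uC c * Nakai.cl hH.1 ^ s)) : ℝ) := fun c d => F_R k hn _ d
  have hsymm : ∀ c d, G c (R k d) = G d (R k c) := fun c d => by rw [hG, hG, mul_left_comm]
  have hadd : ∀ c d, G (c * d) = G c + G d := fun c d => ext_R k fun e => by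
    rw [LinearMap.add_apply, hsymm, hsymm c, hsymm d, BigConeLib.R_mul, map_add]
  have hamp : ∀ A : X.Modules, ∀ hA : CohB1.IsAmple A, G (PicGrp.cls A hA.1) x = 0 := fun A hA => by
    refine F_eq_zero k hn _ (fun C hC hd => ?_) hx hx'
    have hnef : Nakai.NefP k hA.1 := fun ξ hξ => by
      have hP := IntLib.isPiece_compMod ξ
      have := (Nakai.isPos_cl_pow k hA 1 _ hP.coh
        (Nakai.dim_supp_le hP.supp (by rw [hξ]; exact_mod_cast Nat.one_lt_two))).1
      rwa [pow_one] at this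
    have := Nakai.klOK k (s + 1) X A H hA.1 hH hnef C hC hd 1 (Nat.succ_le_succ s.zero_le)
    simpa [Nakai.mono2, uC_cls] using this
  have hz0 : ∀ c, G c x = 0 := fun c => by
    obtain ⟨N, hN⟩ := BigConeLib.eventually_ample hH c
    obtain ⟨M, hM, he⟩ := hN N le_rfl
    have hp : ∀ m : ℕ, G (PicGrp.cls H hH.1 ^ m) x = 0 := fun m => by
      induction m with
      | zero =>
        have h1 := hadd 1 1
        rw [one_mul, left_eq_add] at h1
        rw [pow_zero, h1, LinearMap.zero_apply]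
      | succ m ih => rw [pow_succ, hadd, LinearMap.add_apply, ih, hamp H hH, add_zero]
    have h := hamp M hM
    rwa [he, hadd, LinearMap.add_apply, hp, zero_add] at h
  let b0 := Module.Basis.ofSpan (NumR.span_clR (k := k) (X := X)).ge
  haveI : Fintype _ := FiniteDimensional.fintypeBasisIndex b0
  have hb : ∀ i, ∃ c : PicLoc.PicSet X, b0 i = R k c := fun i => by
    obtain ⟨L, hL, h⟩ := Module.Basis.ofSpan_subset (NumR.span_clR (k := k) (X := X)).ge ⟨i, rfl⟩
    exact ⟨PicGrp.cls L hL, h⟩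
  choose cb hcb using hb
  classical
  let A : Matrix _ _ ℤ := fun i j => P (uC (cb j) * (uC (cb i) * Nakai.cl hH.1 ^ s))
  have hA : ∀ i j, (A i j : ℝ) = G (cb i) (b0 j) := fun i j => by rw [hcb, hG]
  have hdet : A.det ≠ 0 := fun h => by
    obtain ⟨v, hv, hAv⟩ := Matrix.exists_mulVec_eq_zero_iff.2 h
    obtain ⟨z, hzR⟩ : ∃ z : PicLoc.PicSet X, R k z = ∑ i, (v i : ℝ) • b0 i := by
      refine ⟨∏ i, cb i ^ v i, ?_⟩
      simp only [R, ofMul_prod, ofMul_zpow, map_sum, map_zsmul, hcb, Int.cast_smul_eq_zsmul]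
    have hGz : ∀ d, G d (R k z) = 0 := by
      have h1 : G z = 0 := b0.ext fun i => by
        rw [LinearMap.zero_apply, hcb, hsymm, hzR, map_sum]
        simp only [map_smul, smul_eq_mul, ← hA]
        have := congrArg (fun t : ℤ => (t : ℝ)) (congrFun hAv i)
        simp only [Matrix.mulVec, dotProduct, Int.cast_sum, Int.cast_mul, Pi.zero_apply, Int.cast_zero] at this
        refine Eq.trans (Finset.sum_congr rfl fun j _ => ?_) this
        exact mul_comm _ _
      exact fun d => by rw [hsymm, h1, LinearMap.zero_apply]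
    obtain ⟨L, hL, rfl⟩ := PicGrp.exists_eq_cls z
    obtain ⟨H', hH', ⟨eH⟩⟩ := AmpleEmb.exists_isInverseOf hH.1
    obtain ⟨L', hL', ⟨eL⟩⟩ := AmpleEmb.exists_isInverseOf hL
    have hdm : ∀ {M : X.Modules} (hM : PicF.IsInvertible M), dif hM ∈ Nakai.Aug X := fun hM => by
      rw [← neg_neg (dif hM), ← Nakai.cl_eq_neg_dif]
      exact Ideal.neg_mem_iff _ |>.2 (Nakai.cl_mem _)
    have hd : ∀ e, P (uC e * (Nakai.cl hL * Nakai.cl hH.1 ^ s)) = 0 := fun e => by
      have := hGz e
      rw [hsymm, hG, uC_cls] at this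
      exact_mod_cast this
    have hpow := Nakai.pow_sub_pow_mem (Nakai.cl_mem hH.1) (hdm hH') (Nakai.cl_mul_inverse_mem hH.1 hH' eH)
    have hLd := Nakai.cl_mul_inverse_mem hL hL' eL
    have hO := DevLib.isCoh_structureModule X
    have hdO := Nakai.dim_structureModule_lt hn
    have hh : P (dif hL' * dif hH' ^ (s + 1)) = 0 := by
      refine (Nakai.pairing_congr k ?_ hO hdO).trans (hd (PicGrp.cls H hH.1))
      rw [uC_cls, show dif hL' * dif hH' ^ (s + 1) - Nakai.cl hH.1 * (Nakai.cl hL * Nakai.cl hH.1 ^ s) =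
        (dif hL' - Nakai.cl hL) * dif hH' ^ (s + 1) + Nakai.cl hL * (dif hH' ^ (s + 1) - Nakai.cl hH.1 ^ (s + 1))
        by ring, show s + 1 + 1 + 1 = 2 + (s + 1) by omega]
      refine Ideal.add_mem _ ?_ ?_
      · rw [pow_add]
        exact Ideal.mul_mem_mul (by rw [← neg_sub]; exact Ideal.neg_mem_iff _ |>.2 hLd)
          (Ideal.pow_mem_pow (hdm hH') _)
      · rw [show 2 + (s + 1) = 1 + (s + 1 + 1) by omega, pow_add _ 1, pow_one]
        exact Ideal.mul_mem_mul (Nakai.cl_mem hL) (by rw [← neg_sub]; exact Ideal.neg_mem_iff _ |>.2 (hpow _))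
    have hll : P (dif hL' * dif hL' * dif hH' ^ s) = 0 := by
      refine (Nakai.pairing_congr k ?_ hO hdO).trans (hd (PicGrp.cls L hL))
      rw [uC_cls, show dif hL' * dif hL' * dif hH' ^ s - Nakai.cl hL * (Nakai.cl hL * Nakai.cl hH.1 ^ s) =
        (dif hL' - Nakai.cl hL) * (dif hL' + Nakai.cl hL) * dif hH' ^ s +
          Nakai.cl hL * Nakai.cl hL * (dif hH' ^ s - Nakai.cl hH.1 ^ s) by ring,
        show s + 1 + 1 + 1 = 2 + 1 + s by omega]
      refine Ideal.add_mem _ ?_ ?_
      · rw [pow_add _ (2 + 1), pow_add _ 2, pow_one]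
        exact Ideal.mul_mem_mul (Ideal.mul_mem_mul (by rw [← neg_sub]; exact Ideal.neg_mem_iff _ |>.2 hLd)
          (Ideal.add_mem _ (hdm hL') (Nakai.cl_mem hL))) (Ideal.pow_mem_pow (hdm hH') _)
      · rw [show 2 + 1 + s = 1 + 1 + (s + 1) by omega, pow_add _ (1 + 1), pow_add _ 1, pow_one]
        exact Ideal.mul_mem_mul (Ideal.mul_mem_mul (Nakai.cl_mem hL) (Nakai.cl_mem hL))
          (by rw [← neg_sub]; exact Ideal.neg_mem_iff _ |>.2 (hpow _))
    have hnum := GenCut.numTriv_of_index k (s := s) hn hH hH' hL hL' eH eL hh hll.ge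
    have hR0 : ∑ i, (v i : ℝ) • b0 i = 0 := by
      rw [← hzR]
      show NumR.toN1R k X (NumR.cl k X L hL) = 0
      rw [NumR.cl_eq_zero hL hnum, map_zero]
    exact hv (funext fun i => by
      have := Fintype.linearIndependent_iff.1 b0.linearIndependent (fun i => (v i : ℝ)) hR0 i
      exact_mod_cast this)
  have hr : (A.map (fun t : ℤ => (t : ℝ))).mulVec (b0.equivFun x) = 0 := funext fun i => by
    have h := hz0 (cb i)
    rw [← b0.sum_equivFun x, map_sum] at h
    refine Eq.trans (Finset.sum_congr rfl fun j _ => ?_) h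
    rw [map_smul, smul_eq_mul, ← hA, mul_comm]
    rfl
  have hdet' : (A.map (fun t : ℤ => (t : ℝ))).det ≠ 0 := by
    rw [show A.map (fun t : ℤ => (t : ℝ)) = (Int.castRingHom ℝ).mapMatrix A from rfl, ← RingHom.map_det]
    simpa using hdet
  have := Matrix.eq_zero_of_mulVec_eq_zero hdet' hr
  exact b0.equivFun.injective (this.trans (map_zero _).symm)

omit [Module.Finite ℝ (NumR.N1R k X)] in
theorem eq_zero_of_dim_zero (hd : topologicalKrullDim X ≤ 0) (x : NumR.N1R k X) : x = 0 := by
  have h0 : LinearMap.id (R := ℝ) (M := NumR.N1R k X) = 0 := ext_R k fun c => by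
    obtain ⟨L, hL, rfl⟩ := PicGrp.exists_eq_cls c
    show NumR.toN1R k X (NumR.cl k X L hL) = 0
    rw [NumR.cl_eq_zero hL fun Y i _ _ hY => ?_, map_zero]
    have h : topologicalKrullDim Y ≤ 0 := i.isEmbedding.isInducing.topologicalKrullDim_le.trans hd
    rw [hY] at h
    exact absurd h (by decide)
  exact LinearMap.congr_fun h0 x

theorem pointed {A : X.Modules} (hA : CohB1.IsAmple A) {x : NumR.N1R k X} (hx : x ∈ NumR.psefCone k X)
    (hx' : -x ∈ NumR.psefCone k X) : x = 0 := by
  obtain ⟨d, hd⟩ : ∃ d : ℕ, topologicalKrullDim X = (d : WithBot ℕ∞) := by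
    obtain ⟨t, -, ht⟩ := FlatDim.topologicalKrullDim_closure k (X ↘ Spec (CommRingCat.of k)) (genericPoint X)
    rw [(genericPoint_spec X).def, (Homeomorph.Set.univ X).isHomeomorph.topologicalKrullDim_eq] at ht
    exact ⟨t, ht⟩
  match d, hd with
  | 0, hd => exact eq_zero_of_dim_zero k (by rw [hd]; exact le_rfl) x
  | 1, hd => exact eq_zero_one k hd hA hx hx'
  | s + 2, hd => exact eq_zero_two k hd hA hx hx'

end Groth.Agent.PsefPointLib

end
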